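/-
Evaluating words of lattice automorphisms on coded vectors, and inner products of coded vectors.
-/
import Cfsg.Agent.Lib.Leech.ModelCheck
import Cfsg.Agent.Lib.Leech.LeechFrames
import Cfsg.Agent.Lib.Leech.StabSimple
import Cfsg.Agent.Lib.CosetEnum.Sound

set_option autoImplicit false

namespace CfsgCoTwoOut

open Cfsg CfsgGolay CfsgLeech CfsgLeech.Models CfsgLib.CosetEnum
open scoped Pointwise

attribute [local irreducible] codeL octadL dodecadL slpCodes

/-- The image of a code under one step. -/
def stepV : Step → ℕ → ℕ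
  | none, c => pack (fun k =>
      cond ((147496 : ℕ).testBit k) (fieldSum c (blockPts.getD k []) / 2 - papp c k)
        (papp c k + 32 - fieldSum c (blockPts.getD k []) / 2)) 24
  | some (g, m), c => pack (fun k => cond (m.testBit k) (32 - papp c (papp g k)) (papp c (papp g k))) 24

/-- Run a word on a code and test the result. -/
noncomputable def runB : List Step → ℕ → (ℕ → Bool) → Bool
  | [], c, k => k c
  | s :: w, c, k => force (stepV s c) fun d => stepChk s c d && runB w d k

theorem runB_sound : ∀ (w : List Step) (c : ℕ) (k : ℕ → Bool), runB w c k = true →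
    ∃ d, runW w (vecN c) = vecN d ∧ k d = true
  | [], c, k, h => ⟨c, rfl, h⟩
  | s :: w, c, k, h => by
    rw [runB, force_eq, Bool.and_eq_true] at h
    obtain ⟨d, hd, hk⟩ := runB_sound w _ k h.2
    exact ⟨d, by rw [runW, stepChk_eq h.1, hd], hk⟩

/-- A word carries one code to another. -/
noncomputable def sendB (w : List Step) (c t : ℕ) : Bool := force c fun c => force t fun t => runB w c fun d => Nat.beq d t

theorem sendB_sound {w : List Step} {c t : ℕ} (h : sendB w c t = true) : runW w (vecN c) = vecN t := by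
  rw [sendB, force_eq, force_eq] at h
  obtain ⟨d, hd, hk⟩ := runB_sound w c _ h
  rw [hd, Nat.eq_of_beq_eq_true hk]

theorem runW_append : ∀ (u w : List Step) (x : GolayPt → ℤ), runW (u ++ w) x = runW w (runW u x)
  | [], _, _ => rfl
  | _ :: u, w, x => by rw [List.cons_append, runW, runW, runW_append u w]

/-- The automorphism of a word. -/
noncomputable def el (w : List Step) : ↥Co0 :=
  if h : wordOK w = true then (exists_word_aut h).choose else 1

theorem el_apply {w : List Step} (h : wordOK w = true) (v : ↥leechLattice) :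
    ((el w • v : ↥leechLattice) : GolayPt → ℤ) = runW w v := by
  rw [el, dif_pos h]
  exact (exists_word_aut h).choose_spec v

theorem el_send {w : List Step} (h : wordOK w = true) {c t : ℕ} {v : ↥leechLattice}
    (hv : (v : GolayPt → ℤ) = vecN c) (hs : sendB w c t = true) :
    ((el w • v : ↥leechLattice) : GolayPt → ℤ) = vecN t := by
  rw [el_apply h, hv, sendB_sound hs]

theorem sum_range (f : GolayPt → ℤ) : ∑ i, f i = ((List.range 24).map fun k => f (pt k)).sum := by
  have h : (Finset.univ : Finset GolayPt) = ((List.range 24).map pt).toFinset ∧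
      ((List.range 24).map pt).Nodup := by decide +kernel
  rw [h.1, List.sum_toFinset _ h.2, List.map_map]; rfl

/-- The inner product of two codes. -/
def dN (a b : ℕ) : ℤ :=
  ((List.range 24).map fun k => ((papp a k : ℤ) - 16) * ((papp b k : ℤ) - 16)).sum

theorem dN_eq (a b : ℕ) : dotInt (vecN a) (vecN b) = dN a b := by
  rw [dotInt, sum_range, dN]
  congr 1

theorem nN_eq (a : ℕ) : sqNorm (vecN a) = dN a a := by
  rw [← dN_eq, dotInt, sqNorm]
  exact Finset.sum_congr rfl fun i _ => sq _

theorem expand8 (g : ↥Co0) (v : ↥leechLattice) :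
    (8 : ℤ) • (g • v) = ∑ i, (v : GolayPt → ℤ) i • (g • ax i) := by
  have h8 : (8 : ℤ) • v = ∑ i, (v : GolayPt → ℤ) i • ax i := Subtype.ext (by
    funext a
    simp only [AddSubgroup.coe_zsmul, AddSubgroup.val_finsetSum, Pi.smul_apply,
      Finset.sum_apply, ax_coe, Pi.single_apply, smul_eq_mul]
    simp [mul_comm])
  have h9 := congrArg (autHom g) h8
  simp only [map_sum, map_zsmul] at h9
  exact h9

theorem ext_ax {g h : ↥Co0} (H : ∀ i, g • ax i = h • ax i) : g = h := by
  refine aut_ext fun v => funext fun a => ?_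
  have e : (8 : ℤ) • (g • v) = (8 : ℤ) • (h • v) := by
    rw [expand8, expand8]
    exact Finset.sum_congr rfl fun i _ => by rw [H i]
  have := congrFun (congrArg Subtype.val e) a
  simp only [AddSubgroup.coe_zsmul, Pi.smul_apply, smul_eq_mul] at this
  omega

theorem ext_pt {g h : ↥Co0} (H : ∀ k < 24, g • ax (pt k) = h • ax (pt k)) : g = h :=
  ext_ax fun i => by rw [← pt_idx i]; exact H _ (idx_lt i)

theorem dot_dvd (a b : ↥leechLattice) : (8 : ℤ) ∣ dotInt (a : GolayPt → ℤ) (b : GolayPt → ℤ) := by
  have h1 := sqNorm_dvd (mem_leech.mp a.2)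
  have h2 := sqNorm_dvd (mem_leech.mp b.2)
  have h3 := sqNorm_dvd (mem_leech.mp (a + b).2)
  rw [AddSubgroup.coe_add, (sqNorm_sub_add _ _).2] at h3
  omega

/-- The test of a list of images against a pair of lattice vectors. -/
noncomputable def testOK (L : List ℕ) (w u : ℕ) : Bool :=
  force u fun u => force w fun w => decide ((((List.range 24).map fun k => cond (Nat.beq (papp w k) 16) (0 : ℤ) (((papp w k : ℤ) - 16) * force (L.getD k 0) fun a => dN a u)).sum) % 64 = 0)

theorem test_sound (g : ↥Co0) {L : List ℕ}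
    (hL : ∀ k < 24, ((g • ax (pt k) : ↥leechLattice) : GolayPt → ℤ) = vecN (L.getD k 0)) {w u : ℕ}
    (hw : inLatB (vecN w) = true) (hu : inLatB (vecN u) = true) : testOK L w u = true := by
  set W := vecL w
  set U := vecL u
  obtain ⟨t, ht⟩ := dot_dvd (g • W) U
  have hcond : ∀ k, cond (Nat.beq (papp w k) 16) (0 : ℤ) (((papp w k : ℤ) - 16) * dN (L.getD k 0) u) =
      ((papp w k : ℤ) - 16) * dN (L.getD k 0) u := fun k => by
    cases hb : Nat.beq (papp w k) 16
    · rfl
    · rw [Nat.eq_of_beq_eq_true hb]; simp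
  have hsum : ((List.range 24).map fun k => ((papp w k : ℤ) - 16) * dN (L.getD k 0) u).sum =
      ∑ i, (W : GolayPt → ℤ) i * dotInt ((g • ax i : ↥leechLattice) : GolayPt → ℤ) (U : GolayPt → ℤ) := by
    rw [sum_range]
    congr 1
    refine List.map_congr_left fun k hk => ?_
    have hk := List.mem_range.mp hk
    rw [hL k hk, vecL_coe hu, dN_eq, vecL_coe hw, vecN, idx_pt hk]
  have e := expand8 g W
  have key : 8 * dotInt ((g • W : ↥leechLattice) : GolayPt → ℤ) (U : GolayPt → ℤ) =
      ∑ i, (W : GolayPt → ℤ) i * dotInt ((g • ax i : ↥leechLattice) : GolayPt → ℤ) (U : GolayPt → ℤ) := by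
    simp only [dotInt, Finset.mul_sum]
    rw [Finset.sum_comm]
    refine Finset.sum_congr rfl fun a _ => ?_
    have ea := congrFun (congrArg Subtype.val e) a
    simp only [AddSubgroup.coe_zsmul, AddSubgroup.val_finsetSum, Pi.smul_apply, Finset.sum_apply,
      smul_eq_mul] at ea
    rw [← mul_assoc, ea, Finset.sum_mul]
    exact Finset.sum_congr rfl fun i _ => mul_assoc _ _ _
  simp only [testOK, force_eq]
  rw [decide_eq_true_iff, funext hcond, hsum, ← key, ht]
  omega

/-- A vector of a list against a vector: congruent modulo twice the lattice. -/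
def halfC (c m : ℕ) : ℕ := pack (fun k => (papp c k + 32 - papp m k) / 2) 24

/-- A list of forty-eight members of a cross. -/
noncomputable def crossB (c : ℕ) (L : List ℕ) : Bool :=
  force c fun c => Nat.beq L.length 48 && decide L.Nodup && inLatB (vecN c) && decide (dN c c = 64) &&
    L.all fun m => force m fun m => decide (m < 2 ^ 120) && inLatB (vecN m) && decide (dN m m = 64) && force (halfC c m) fun z => inLatB (vecN z) &&
      (List.range 24).all fun k =>
        decide ((papp c k : ℤ) - papp m k = 2 * ((papp z k : ℤ) - 16))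

theorem cross_list {c : ℕ} {L : List ℕ} (h : crossB c L = true) {x : GolayPt → ℤ} (hx : x ∈ cross (vecN c)) :
    ∃ m ∈ L, x = vecN m := by
  simp only [crossB, force_eq, Bool.and_eq_true, List.all_eq_true, decide_eq_true_eq, List.mem_range] at h
  obtain ⟨⟨⟨⟨hlen, hnd⟩, hc⟩, hn⟩, hm⟩ := h
  have hlen := Nat.eq_of_beq_eq_true hlen
  classical
  have hsub : vecN '' {m | m ∈ L} ⊆ cross (vecN c) := by
    rintro _ ⟨m, hmL, rfl⟩
    obtain ⟨⟨⟨-, h2⟩, h3⟩, h4, h5⟩ := hm m hmL
    refine ⟨inLatB_sound h2, by rw [nN_eq, nN_eq, h3, hn], _, inLatB_sound h4, funext fun i => ?_⟩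
    have := h5 (idx i) (idx_lt i)
    simp only [Pi.sub_apply, Pi.smul_apply, vecN, nsmul_eq_mul, Nat.cast_ofNat]
    omega
  have hcard : (vecN '' {m | m ∈ L}).ncard = 48 := by
    rw [Set.InjOn.ncard_image (s := {m | m ∈ L}) fun a ha b hb e => vecN_inj (hm a ha).1.1.1 (hm b hb).1.1.1 e,
      show {m | m ∈ L} = (L.toFinset : Set ℕ) by ext; simp, Set.ncard_coe_finset, List.toFinset_card_of_nodup hnd,
      hlen]
  have hfin : (cross (vecN c)).Finite := Set.finite_of_ncard_ne_zero (by
    rw [cross_ncard (inLatB_sound hc) (by rw [nN_eq, hn])]; norm_num)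
  have := Set.eq_of_subset_of_ncard_le hsub
    (by rw [hcard, cross_ncard (inLatB_sound hc) (by rw [nN_eq, hn])]) hfin
  rw [← this] at hx
  obtain ⟨m, hm', rfl⟩ := hx
  exact ⟨m, hm', rfl⟩

theorem ax_mem_cross (g : ↥Co0) (i : GolayPt) :
    ((g • ax i : ↥leechLattice) : GolayPt → ℤ) ∈ cross ((g • ax none : ↥leechLattice) : GolayPt → ℤ) := by
  have hm : (ax i : GolayPt → ℤ) ∈ cross (ax none : GolayPt → ℤ) := by
    rw [cross_ax_none]
    exact ⟨i, 8, Or.inl rfl, rfl⟩
  obtain ⟨-, hn, z, hz, he⟩ := hm
  refine ⟨(g • ax i).2, by rw [aut_norm, aut_norm]; exact hn,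
    ((g • (⟨z, hz⟩ : ↥leechLattice) : ↥leechLattice) : GolayPt → ℤ), SetLike.coe_mem _, ?_⟩
  have he' : ax none - ax i = 2 • (⟨z, hz⟩ : ↥leechLattice) := Subtype.ext he
  have h2 := congrArg (autHom g) he'
  rw [map_sub, map_nsmul] at h2
  exact congrArg Subtype.val h2

end CfsgCoTwoOut
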