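/-
The translation, the doubling and an element normalising it, in the stabiliser of a minimal vector.
-/
import Cfsg.Agent.Lib.CoTwoOut.Data
import Cfsg.Agent.Lib.CoTwoOut.Step
import Cfsg.Agent.Lib.Leech.ConwayGroups

set_option autoImplicit false
set_option maxRecDepth 100000

namespace CfsgCoTwoOut

open Cfsg CfsgGolay CfsgLeech CfsgLeech.Models CfsgLib.CosetEnum
open scoped Pointwise

attribute [local irreducible] codeL octadL dodecadL slpCodes

/-- The step of the translation. -/
def xS : Step := some (xC, 0)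

/-- The step of the doubling. -/
def yS : Step := some (yC, 0)

theorem words_ok : wordOK [xS] = true ∧ wordOK [yS] = true ∧ wordOK zW = true := by decide +kernel

/-- The translation. -/
noncomputable def Xe : ↥Co0 := el [xS]

/-- The doubling. -/
noncomputable def Ye : ↥Co0 := el [yS]

/-- The third generator. -/
noncomputable def Ze : ↥Co0 := el zW

theorem ax_code : ∀ k < 24, vecN (axC.getD k 0) = (Pi.single (pt k) 8 : GolayPt → ℤ) := by decide +kernel

theorem ax_val {k : ℕ} (hk : k < 24) : (ax (pt k) : GolayPt → ℤ) = vecN (axC.getD k 0) := by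
  rw [ax_code k hk, ax_coe]

theorem pt_last : (pt 23 : GolayPt) = none := pt23

theorem vC_facts : vecN vC = vStd ∧ sendB [xS] vC vC = true ∧ sendB [yS] vC vC = true ∧ sendB zW vC vC = true := by
  decide +kernel

theorem vS_val : (vS : GolayPt → ℤ) = vecN vC := vC_facts.1.symm

theorem Xe_fix : Xe • vS = vS := Subtype.ext (by rw [Xe, el_send words_ok.1 vS_val vC_facts.2.1, vS_val])

theorem Ye_fix : Ye • vS = vS := Subtype.ext (by rw [Ye, el_send words_ok.2.1 vS_val vC_facts.2.2.1, vS_val])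

theorem Ze_fix : Ze • vS = vS := Subtype.ext (by rw [Ze, el_send words_ok.2.2 vS_val vC_facts.2.2.2, vS_val])

theorem ax_moves : (((List.range 23).all fun k => sendB [xS] (axC.getD k 0) (axC.getD ((k + 1) % 23) 0) &&
    sendB [yS] (axC.getD k 0) (axC.getD (2 * k % 23) 0)) && sendB [xS] (axC.getD 23 0) (axC.getD 23 0) &&
    sendB [yS] (axC.getD 23 0) (axC.getD 23 0)) = true := by decide +kernel

theorem Xe_ax {k : ℕ} (hk : k < 23) : Xe • ax (pt k) = ax (pt ((k + 1) % 23)) := by
  have h := ax_moves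
  simp only [Bool.and_eq_true, List.all_eq_true, List.mem_range] at h
  exact Subtype.ext (by
    rw [Xe, el_send words_ok.1 (ax_val (by omega)) (h.1.1 k hk).1, ax_val (by omega)])

theorem Ye_ax {k : ℕ} (hk : k < 23) : Ye • ax (pt k) = ax (pt (2 * k % 23)) := by
  have h := ax_moves
  simp only [Bool.and_eq_true, List.all_eq_true, List.mem_range] at h
  exact Subtype.ext (by
    rw [Ye, el_send words_ok.2.1 (ax_val (by omega)) (h.1.1 k hk).2, ax_val (by omega)])

theorem Xe_axn : Xe • ax none = ax none := by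
  have h := ax_moves
  simp only [Bool.and_eq_true] at h
  rw [← pt_last]
  exact Subtype.ext (by rw [Xe, el_send words_ok.1 (ax_val (by omega)) h.1.2, ax_val (by omega)])

theorem Ye_axn : Ye • ax none = ax none := by
  have h := ax_moves
  simp only [Bool.and_eq_true] at h
  rw [← pt_last]
  exact Subtype.ext (by rw [Ye, el_send words_ok.2.1 (ax_val (by omega)) h.2, ax_val (by omega)])

theorem Xpow_ax : ∀ (n : ℕ) {k : ℕ}, k < 23 → Xe ^ n • ax (pt k) = ax (pt ((k + n) % 23))
  | 0, k, hk => by rw [pow_zero, one_smul, add_zero, Nat.mod_eq_of_lt hk]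
  | n + 1, k, hk => by
    rw [pow_succ', mul_smul, Xpow_ax n hk, Xe_ax (Nat.mod_lt _ (by norm_num))]
    congr 2
    omega

theorem Xpow_axn : ∀ n : ℕ, Xe ^ n • ax none = ax none
  | 0 => by rw [pow_zero, one_smul]
  | n + 1 => by rw [pow_succ', mul_smul, Xpow_axn n, Xe_axn]

theorem Ypow_ax : ∀ (n : ℕ) {k : ℕ}, k < 23 → Ye ^ n • ax (pt k) = ax (pt (2 ^ n * k % 23))
  | 0, k, hk => by rw [pow_zero, one_smul, pow_zero, one_mul, Nat.mod_eq_of_lt hk]
  | n + 1, k, hk => by
    rw [pow_succ', mul_smul, Ypow_ax n hk, Ye_ax (Nat.mod_lt _ (by norm_num))]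
    congr 2
    rw [pow_succ', mul_assoc, Nat.mul_mod_mod]

theorem Ypow_axn : ∀ n : ℕ, Ye ^ n • ax none = ax none
  | 0 => by rw [pow_zero, one_smul]
  | n + 1 => by rw [pow_succ', mul_smul, Ypow_axn n, Ye_axn]

theorem ext_split {g h : ↥Co0} (hn : g • ax none = h • ax none) (H : ∀ k < 23, g • ax (pt k) = h • ax (pt k)) :
    g = h :=
  ext_pt fun k hk => by
    rcases Nat.lt_or_ge k 23 with hk' | hk'
    · exact H k hk'
    · obtain rfl : k = 23 := by omega
      rw [pt_last]; exact hn

theorem Xe_pow_p : Xe ^ 23 = 1 :=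
  ext_split (by rw [Xpow_axn, one_smul]) fun k hk => by
    rw [Xpow_ax 23 hk, one_smul, Nat.add_mod_right, Nat.mod_eq_of_lt hk]

theorem Ye_pow_p : Ye ^ 11 = 1 :=
  ext_split (by rw [Ypow_axn, one_smul]) fun k hk => by
    rw [Ypow_ax 11 hk, one_smul, Nat.mul_mod, show 2 ^ 11 % 23 = 1 by norm_num, one_mul, Nat.mod_mod,
      Nat.mod_eq_of_lt hk]

theorem ax_inj {i j : GolayPt} (h : ax i = ax j) : i = j := by
  have h1 := congrFun (congrArg Subtype.val h) i
  rw [ax_coe, ax_coe, Pi.single_eq_same] at h1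
  by_contra hne
  rw [Pi.single_eq_of_ne hne] at h1
  norm_num at h1

theorem Xe_ne : Xe ≠ 1 := fun h => by
  have h1 := Xe_ax (show 0 < 23 by norm_num)
  rw [h, one_smul] at h1
  have h2 := congrArg idx (ax_inj h1)
  rw [idx_pt (by norm_num), idx_pt (by norm_num)] at h2
  norm_num at h2

theorem Ye_ne : Ye ≠ 1 := fun h => by
  have h1 := Ye_ax (show 1 < 23 by norm_num)
  rw [h, one_smul] at h1
  have h2 := congrArg idx (ax_inj h1)
  rw [idx_pt (by norm_num), idx_pt (by norm_num)] at h2
  norm_num at h2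

theorem YX : Ye * Xe = Xe ^ 2 * Ye :=
  ext_split (by rw [mul_smul, mul_smul, Xe_axn, Ye_axn, Xpow_axn]) fun k hk => by
    rw [mul_smul, mul_smul, Xe_ax hk, Ye_ax (Nat.mod_lt _ (by norm_num)), Ye_ax hk,
      Xpow_ax 2 (Nat.mod_lt _ (by norm_num))]
    congr 2
    omega

theorem zy_check : ((List.range 24).all fun k => runB ([yS] ++ zW) (axC.getD k 0) fun d =>
    sendB (zW ++ [yS, yS]) (axC.getD k 0) d) = true := by decide +kernel

theorem el_append {u w : List Step} (hu : wordOK u = true) (hw : wordOK w = true) (v : ↥leechLattice) :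
    (((el w * el u) • v : ↥leechLattice) : GolayPt → ℤ) = runW (u ++ w) v := by
  rw [mul_smul, el_apply hw, el_apply hu, runW_append]

theorem ZY : Ze * Ye = Ye ^ 2 * Ze := ext_pt fun k hk => by
  obtain ⟨d, hd, hs⟩ := runB_sound _ _ _ (List.all_eq_true.mp zy_check k (List.mem_range.mpr hk))
  refine Subtype.ext ?_
  rw [Ze, Ye, el_append words_ok.2.1 words_ok.2.2, sq, mul_smul, mul_smul, el_apply words_ok.2.1,
    el_apply words_ok.2.1, el_apply words_ok.2.2, ax_val hk, hd, ← sendB_sound hs,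
    show zW ++ [yS, yS] = (zW ++ [yS]) ++ [yS] by rw [List.append_assoc]; rfl, runW_append, runW_append]

end CfsgCoTwoOut
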