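/-
The normalisers of the translation and of the doubling in the stabiliser of a minimal vector.
-/
import Cfsg.Agent.Lib.CoTwoOut.Elems

set_option autoImplicit false
set_option maxRecDepth 100000
set_option maxHeartbeats 1000000

namespace CfsgCoTwoOut

open Cfsg CfsgGolay CfsgLeech CfsgLeech.Models CfsgLib.CosetEnum
open scoped Pointwise

attribute [local irreducible] codeL octadL dodecadL slpCodes

theorem dot_vax {g : ↥Co0} (hg : g • vS = vS) (i : GolayPt) :
    dotInt vStd ((g • ax i : ↥leechLattice) : GolayPt → ℤ) = 8 * vStd i := by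
  have h := aut_dot g vS (ax i)
  rw [hg] at h
  refine h.trans ?_
  rw [show (vS : GolayPt → ℤ) = vStd from rfl, ax_coe, dotInt,
    Finset.sum_eq_single i (fun b _ hb => by simp [hb]) (fun h => absurd (Finset.mem_univ _) h),
    Pi.single_eq_same]
  ring

theorem norm_ax (g : ↥Co0) (i : GolayPt) : sqNorm ((g • ax i : ↥leechLattice) : GolayPt → ℤ) = 64 :=
  (aut_norm g (ax i)).trans (eightSet_props (mem_eightSet.mpr ⟨i, 8, Or.inl rfl, rfl⟩)).2

theorem shift_checks : (∀ k < 23, papp xC ((k + 1) % 23) = k ∧ papp yC (2 * k % 23) = k) ∧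
    papp xC 23 = 23 ∧ papp yC 23 = 23 := by decide +kernel

theorem Xe_shape {z : ↥leechLattice} (h : Xe • z = z) {k : ℕ} (hk : k < 23) :
    (z : GolayPt → ℤ) (pt ((k + 1) % 23)) = (z : GolayPt → ℤ) (pt k) := by
  have h1 := congrFun (congrArg Subtype.val h) (pt ((k + 1) % 23))
  rw [Xe, el_apply words_ok.1] at h1
  simp only [runW, xS, stepF, Nat.zero_testBit, Bool.false_eq_true, if_false,
    idx_pt (show (k + 1) % 23 < 24 by omega), (shift_checks.1 k hk).1] at h1
  exact h1.symm

theorem Ye_shape {z : ↥leechLattice} (h : Ye • z = z) {k : ℕ} (hk : k < 23) :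
    (z : GolayPt → ℤ) (pt (2 * k % 23)) = (z : GolayPt → ℤ) (pt k) := by
  have h1 := congrFun (congrArg Subtype.val h) (pt (2 * k % 23))
  rw [Ye, el_apply words_ok.2.1] at h1
  simp only [runW, yS, stepF, Nat.zero_testBit, Bool.false_eq_true, if_false,
    idx_pt (show 2 * k % 23 < 24 by omega), (shift_checks.1 k hk).2] at h1
  exact h1.symm

theorem Xe_const {z : ↥leechLattice} (h : Xe • z = z) : ∀ {k : ℕ}, k < 23 →
    (z : GolayPt → ℤ) (pt k) = (z : GolayPt → ℤ) (pt 0)
  | 0, _ => rfl
  | k + 1, hk => by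
    rw [← Xe_const h (show k < 23 by omega), ← Xe_shape h (show k < 23 by omega), Nat.mod_eq_of_lt hk]

theorem Ye_const {z : ↥leechLattice} (h : Ye • z = z) {s : ℕ} (hs : s < 23) : ∀ t : ℕ,
    (z : GolayPt → ℤ) (pt (2 ^ t * s % 23)) = (z : GolayPt → ℤ) (pt s)
  | 0 => by rw [pow_zero, one_mul, Nat.mod_eq_of_lt hs]
  | t + 1 => by
    rw [← Ye_const h hs t, ← Ye_shape h (Nat.mod_lt _ (by norm_num) : 2 ^ t * s % 23 < 23), Nat.mul_mod_mod,
      ← mul_assoc, ← pow_succ']

theorem uniqX {z : ↥leechLattice} (h : Xe • z = z) (hz : sqNorm (z : GolayPt → ℤ) = 64)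
    (hd : dotInt vStd (z : GolayPt → ℤ) = -24) : z = ax none := by
  set x := (z : GolayPt → ℤ)
  set b := x (pt 0)
  have hs : ∀ i, i ≠ none → x i = b := fun i hi => by
    have hlt : idx i < 23 := by
      have h1 := idx_lt i
      by_contra hh
      exact hi (by rw [← pt_idx i, show idx i = 23 by omega]; exact pt23)
    have := Xe_const h hlt
    rwa [pt_idx] at this
  have e1 : sqNorm x = x none ^ 2 + 23 * b ^ 2 := by
    rw [sqNorm, sum_split_one, Finset.sum_congr rfl (fun i hi => by rw [hs i (Finset.ne_of_mem_erase hi)]),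
      Finset.sum_const, erase_none_card, nsmul_eq_mul]
    norm_num
  have e2 : dotInt vStd x = -3 * x none + 23 * b := by
    rw [dotInt, sum_split_one, show vStd none = -3 by decide +kernel, Finset.sum_congr rfl (fun i hi => by
      rw [hs i (Finset.ne_of_mem_erase hi), vStd_off i (Finset.ne_of_mem_erase hi), one_mul]),
      Finset.sum_const, erase_none_card, nsmul_eq_mul]
    norm_num
  rw [e2] at hd
  rw [e1] at hz
  suffices e : x none = 8 from eq_axis e (e1.trans hz)
  have hb : -1 ≤ b ∧ b ≤ 1 := ⟨by nlinarith, by nlinarith⟩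
  rcases (show b = -1 ∨ b = 0 ∨ b = 1 by omega) with e | e | e <;> rw [e] at hd <;> omega

theorem vStd_vals : ∀ k, vStd (pt k) = if k < 23 then 1 else -3 := fun k => by
  by_cases hk : k < 23
  · rw [if_pos hk, vStd_off]
    intro e
    have := congrArg idx e
    rw [idx_pt (by omega)] at this
    simp [idx] at this
    omega
  · rw [if_neg hk, show pt k = none by simp [pt, hk]]
    decide +kernel

/-- The code of a vector constant on the orbits of the doubling. -/
def cY (A B C D : ℕ) : ℕ :=
  pack (fun k => match (tab.getD k (0, 0)).1 with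
    | 0 => B
    | 1 => C
    | 2 => D
    | _ => A) 24

theorem tab_ok : ∀ k < 24, ((tab.getD k (0, 0)).1 = 0 ∧ k = 0) ∨
    ((tab.getD k (0, 0)).1 = 1 ∧ k = 2 ^ (tab.getD k (0, 0)).2 % 23 ∧ (tab.getD k (0, 0)).2 < 11) ∨
    ((tab.getD k (0, 0)).1 = 2 ∧ k = 2 ^ (tab.getD k (0, 0)).2 * 5 % 23 ∧ (tab.getD k (0, 0)).2 < 11) ∨
    ((tab.getD k (0, 0)).1 = 3 ∧ k = 23) := by decide +kernel

/-- The candidates for the image of the fixed axis. -/
noncomputable def fixB : Bool :=
  (List.range' 8 17).all fun A => (List.range' 8 17).all fun B =>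
    (List.range' 14 5).all fun C => (List.range' 14 5).all fun D =>
      !Nat.beq (B + 11 * C + 11 * D + 72) (3 * A + 368) || force (cY A B C D) fun c => !decide (dN c c = 64) ||
        Nat.beq c (axC.getD 23 0) || Nat.beq c nC || genC.any fun u => !decide (dN u c % 8 = 0)

theorem fix_ok : fixB = true := by decide +kernel

theorem genC_ok : (genC.all fun u => inLatB (vecN u)) = true := by decide +kernel

theorem fixed_vals {z : ↥leechLattice} (h : Ye • z = z) (hz : sqNorm (z : GolayPt → ℤ) = 64)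
    (hd : dotInt vStd (z : GolayPt → ℤ) = -24) :
    ∃ c, (c = axC.getD 23 0 ∨ c = nC) ∧ (z : GolayPt → ℤ) = vecN c := by
  set x := (z : GolayPt → ℤ)
  have bd : ∀ i, -8 ≤ x i ∧ x i ≤ 8 := fun i => by
    have h1 : x i ^ 2 ≤ 64 := hz ▸ Finset.single_le_sum (fun j _ => sq_nonneg (x j)) (Finset.mem_univ i)
    constructor <;> nlinarith
  have bd2 : ∀ s, s = 1 ∨ s = 5 → -2 ≤ x (pt s) ∧ x (pt s) ≤ 2 := fun s hs => by
    have hcard : ((Finset.range 11).image fun t => pt (2 ^ t * s % 23)).card = 11 := by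
      rcases hs with rfl | rfl <;> decide +kernel
    have h1 : ∑ i ∈ (Finset.range 11).image fun t => pt (2 ^ t * s % 23), x i ^ 2 ≤ 64 :=
      hz ▸ Finset.sum_le_sum_of_subset_of_nonneg (Finset.subset_univ _) fun j _ _ => sq_nonneg (x j)
    rw [Finset.sum_congr rfl (g := fun _ => x (pt s) ^ 2) (fun i hi => by
      obtain ⟨t, -, rfl⟩ := Finset.mem_image.mp hi
      exact congrArg (· ^ 2) (Ye_const h (by omega) t)), Finset.sum_const, hcard, nsmul_eq_mul] at h1
    push_cast at h1
    constructor <;> nlinarith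
  obtain ⟨a1, a2⟩ := bd none
  obtain ⟨b1, b2⟩ := bd (pt 0)
  obtain ⟨c1, c2⟩ := bd2 1 (Or.inl rfl)
  obtain ⟨d1, d2⟩ := bd2 5 (Or.inr rfl)
  set A := (x none + 16).toNat with hA
  set B := (x (pt 0) + 16).toNat with hB
  set C := (x (pt 1) + 16).toNat with hC
  set D := (x (pt 5) + 16).toNat with hD
  have hval : ∀ k < 24, x (pt k) = (match (tab.getD k (0, 0)).1 with
      | 0 => x (pt 0)
      | 1 => x (pt 1)
      | 2 => x (pt 5)
      | _ => x none) := fun k hk => by
    rcases tab_ok k hk with ⟨e1, e2⟩ | ⟨e1, e2, -⟩ | ⟨e1, e2, -⟩ | ⟨e1, e2⟩ <;> rw [e1] <;> simp only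
    · rw [e2]
    · conv_lhs => rw [e2, ← mul_one (2 ^ _ : ℕ)]
      exact Ye_const h (by norm_num) _
    · conv_lhs => rw [e2]
      exact Ye_const h (by norm_num) _
    · rw [e2, pt_last]
  have hx : x = vecN (cY A B C D) := funext fun i => by
    rw [vecN, cY, (pack_spec _ (fun k => by split <;> omega) 24).2 _ (idx_lt i),
      show x i = x (pt (idx i)) by rw [pt_idx], hval _ (idx_lt i)]
    rcases tab_ok _ (idx_lt i) with ⟨e1, -⟩ | ⟨e1, -, -⟩ | ⟨e1, -, -⟩ | ⟨e1, -⟩ <;> rw [e1] <;> simp only <;> omega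
  have hok := fix_ok
  simp only [fixB, force_eq, List.all_eq_true, List.mem_range'_1, Bool.or_eq_true, Bool.not_eq_true',
    decide_eq_false_iff_not] at hok
  have hlin : -3 * x none + x (pt 0) + 11 * x (pt 1) + 11 * x (pt 5) = -24 := by
    refine Eq.trans ?_ hd
    rw [dotInt, sum_range, List.map_congr_left (g := fun k => vStd (pt k) * (match (tab.getD k (0, 0)).1 with
      | 0 => x (pt 0)
      | 1 => x (pt 1)
      | 2 => x (pt 5)
      | _ => x none)) fun k hk => by rw [hval k (List.mem_range.mp hk)]]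
    simp [List.range_succ, tab, vStd_vals]
    ring
  rcases hok A ⟨by omega, by omega⟩ B ⟨by omega, by omega⟩ C ⟨by omega, by omega⟩ D ⟨by omega, by omega⟩ with
    e | ((e | e) | e) | e
  · exfalso
    refine Bool.eq_false_iff.mp e (Nat.beq_eq.mpr ?_)
    omega
  · exfalso
    exact e (by rw [← nN_eq, ← hx, hz])
  · exact ⟨_, Or.inl (Nat.eq_of_beq_eq_true e), hx⟩
  · exact ⟨_, Or.inr (Nat.eq_of_beq_eq_true e), hx⟩
  · exfalso
    obtain ⟨u, hu, hbad⟩ := List.any_eq_true.mp e
    simp only [Bool.not_eq_true', decide_eq_false_iff_not] at hbad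
    refine hbad ?_
    have hl : inLatB (vecN u) = true := List.all_eq_true.mp genC_ok u hu
    obtain ⟨w, hw⟩ := dot_dvd (vecL u) z
    rw [vecL_coe hl, show (z : GolayPt → ℤ) = vecN (cY A B C D) from hx, dN_eq] at hw
    rw [hw]
    omega

/-- The rows of one cross. -/
noncomputable def rowsOK (cr : List ℕ) (rows : List (List ℕ)) : Bool :=
  (cr.all fun m => !decide (dN vC m = 8) || rows.any fun r => Nat.beq (r.getD 0 0) m) &&
    rows.all fun r => r.all (fun m => decide (m < 2 ^ 120)) &&
      (List.range 10).all fun t => sendB [yS] (r.getD t 0) (r.getD (t + 1) 0)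

theorem rows_ok : rowsOK crS rowsS = true ∧ rowsOK crN rowsN = true ∧ crossB (axC.getD 23 0) crS = true ∧
    crossB nC crN = true := by decide +kernel

theorem row_pow {rows : List (List ℕ)} {cr : List ℕ} (h : rowsOK cr rows = true) {r : List ℕ} (hr : r ∈ rows)
    {v : ↥leechLattice} (hv : (v : GolayPt → ℤ) = vecN (r.getD 0 0)) :
    ∀ t, t < 11 → ((Ye ^ t • v : ↥leechLattice) : GolayPt → ℤ) = vecN (r.getD t 0) := by
  simp only [rowsOK, Bool.and_eq_true, List.all_eq_true, List.mem_range] at h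
  intro t
  induction t with
  | zero => intro _; rw [pow_zero, one_smul, hv]
  | succ t ih =>
    intro ht
    rw [pow_succ', mul_smul]
    exact el_send words_ok.2.1 (ih (by omega)) ((h.2 r hr).2 t (by omega))

/-- The images of the axes built from the rows. -/
def mkL (c : ℕ) (r0 ra rb : List ℕ) : List ℕ :=
  (List.range 24).map fun k => match (tab.getD k (0, 0)).1 with
    | 0 => r0.getD 0 0
    | 1 => ra.getD (tab.getD k (0, 0)).2 0
    | 2 => rb.getD (tab.getD k (0, 0)).2 0
    | _ => c

/-- A list of images is that of a power of the doubling. -/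
def goodY (L : List ℕ) : Bool :=
  (List.range 11).any fun t => Nat.beq (L.getD 23 0) (axC.getD 23 0) &&
    (List.range 23).all fun k => Nat.beq (L.getD k 0) (axC.getD (2 ^ t * k % 23) 0)

/-- Every candidate fails a test or is a power. -/
noncomputable def candY (c : ℕ) (rows : List (List ℕ)) : Bool :=
  rows.all fun r0 => !Nat.beq (r0.getD 1 0) (r0.getD 0 0) || rows.all fun ra => rows.all fun rb =>
    (tests.any fun p => !testOK (mkL c r0 ra rb) p.1 p.2) || goodY (mkL c r0 ra rb)

theorem candS_ok : candY (axC.getD 23 0) rowsS = true := by decide +kernel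

theorem candN_ok : candY nC rowsN = true := by decide +kernel

theorem tests_ok : (tests.all fun p => inLatB (vecN p.1) && inLatB (vecN p.2)) = true := by decide +kernel

theorem centY_aux {g : ↥Co0} (hg : g • vS = vS) (hc : g * Ye = Ye * g) {c : ℕ} {cr : List ℕ}
    {rows : List (List ℕ)} (h1 : ((g • ax none : ↥leechLattice) : GolayPt → ℤ) = vecN c)
    (h2 : crossB c cr = true) (h3 : rowsOK cr rows = true) (h4 : candY c rows = true) : ∃ t, g = Ye ^ t := by
  have hpow : ∀ t : ℕ, g * Ye ^ t = Ye ^ t * g := fun t => (Commute.pow_right hc t).eq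
  have hmem : ∀ k < 23, ∃ r ∈ rows,
      ((g • ax (pt k) : ↥leechLattice) : GolayPt → ℤ) = vecN (r.getD 0 0) := fun k hk => by
    have hx := ax_mem_cross g (pt k)
    rw [h1] at hx
    obtain ⟨m, hm, e⟩ := cross_list h2 hx
    have hd := dot_vax hg (pt k)
    rw [e, vStd_off _ (fun e' => by
        have := congrArg idx e'
        rw [idx_pt (by omega)] at this
        simp [idx] at this
        omega),
      show dotInt vStd (vecN m) = dN vC m by rw [← dN_eq, vC_facts.1]] at hd
    simp only [rowsOK, Bool.and_eq_true, List.all_eq_true, Bool.or_eq_true, Bool.not_eq_true',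
      decide_eq_false_iff_not, List.any_eq_true] at h3
    rcases h3.1 m hm with hne | ⟨r, hr, hr'⟩
    · exact absurd (by simpa using hd) hne
    · exact ⟨r, hr, by rw [e, Nat.eq_of_beq_eq_true hr']⟩
  obtain ⟨r0, hr0, e0⟩ := hmem 0 (by norm_num)
  obtain ⟨ra, hra, ea⟩ := hmem 1 (by norm_num)
  obtain ⟨rb, hrb, eb⟩ := hmem 5 (by norm_num)
  have hfix : Nat.beq (r0.getD 1 0) (r0.getD 0 0) = true := by
    have hp := row_pow h3 hr0 e0 1 (by norm_num)
    rw [pow_one, ← mul_smul, ← hc, mul_smul, Ye_ax (by norm_num), show 2 * 0 % 23 = 0 from rfl, e0] at hp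
    have hb : ∀ j, r0.getD j 0 < 2 ^ 120 := fun j => by
      simp only [rowsOK, Bool.and_eq_true, List.all_eq_true, decide_eq_true_eq] at h3
      rcases lt_or_ge j r0.length with hj | hj
      · rw [List.getD_eq_getElem _ _ hj]; exact (h3.2 r0 hr0).1 _ (List.getElem_mem hj)
      · rw [List.getD_eq_default _ _ hj]; positivity
    rw [vecN_inj (hb 1) (hb 0) hp.symm]
    exact Nat.beq_refl _
  have hL : ∀ k < 24, ((g • ax (pt k) : ↥leechLattice) : GolayPt → ℤ) = vecN ((mkL c r0 ra rb).getD k 0) := by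
    intro k hk
    rw [mkL, List.getD_eq_getElem _ _ (by simpa using hk), List.getElem_map, List.getElem_range]
    rcases tab_ok k hk with ⟨e1, e2⟩ | ⟨e1, e2, e3⟩ | ⟨e1, e2, e3⟩ | ⟨e1, e2⟩ <;> rw [e1]
    · simp only; rw [e2, e0]
    · simp only
      conv_lhs => rw [e2, ← mul_one (2 ^ _ : ℕ), ← Ypow_ax _ (by norm_num), ← mul_smul, hpow, mul_smul]
      exact row_pow h3 hra ea _ e3
    · simp only
      conv_lhs => rw [e2, ← Ypow_ax _ (by norm_num), ← mul_smul, hpow, mul_smul]
      exact row_pow h3 hrb eb _ e3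
    · simp only; rw [e2, pt_last, h1]
  simp only [candY, List.all_eq_true, Bool.or_eq_true, Bool.not_eq_true', List.any_eq_true] at h4
  rcases (h4 r0 hr0).resolve_left (by rw [hfix]; simp) ra hra rb hrb with ⟨p, hp, hbad⟩ | hgood
  · have hl := List.all_eq_true.mp tests_ok p hp
    rw [Bool.and_eq_true] at hl
    rw [test_sound g hL hl.1 hl.2] at hbad
    exact absurd hbad (by simp)
  · simp only [goodY, List.any_eq_true, List.all_eq_true, List.mem_range, Bool.and_eq_true] at hgood
    obtain ⟨t, -, hlast, hall⟩ := hgood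
    refine ⟨t, ext_split (Subtype.ext ?_) fun k hk => Subtype.ext ?_⟩
    · rw [Ypow_axn, ← pt_last, hL 23 (by norm_num), Nat.eq_of_beq_eq_true hlast, ax_val (by norm_num)]
    · rw [Ypow_ax t hk, hL k (by omega), Nat.eq_of_beq_eq_true (hall k hk),
        ax_val ((Nat.mod_lt _ (by norm_num : 0 < 23)).trans (by norm_num))]

theorem centY {g : ↥Co0} (hg : g • vS = vS) (hc : g * Ye = Ye * g) : ∃ t, g = Ye ^ t := by
  have hf : Ye • (g • ax none) = g • ax none := by rw [← mul_smul, ← hc, mul_smul, Ye_axn]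
  have hd := dot_vax hg none
  rw [show vStd none = -3 by decide +kernel] at hd
  obtain ⟨c, hcc, hx⟩ := fixed_vals hf (norm_ax g none) hd
  rcases hcc with rfl | rfl
  · exact centY_aux hg hc hx rows_ok.2.2.1 rows_ok.1 candS_ok
  · exact centY_aux hg hc hx rows_ok.2.2.2 rows_ok.2.1 candN_ok

/-- The images of the axes under a normaliser of the translation. -/
def xL (j e : ℕ) : List ℕ :=
  (List.range 24).map fun k => cond (Nat.beq k 23) (axC.getD 23 0) (axC.getD ((e + j * k) % 23) 0)

/-- Every candidate fails a test or scales by a power of two. -/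
noncomputable def candX : Bool :=
  (List.range 23).all fun j => Nat.beq j 0 || (List.range 23).all fun e =>
    ((List.range 11).any fun b => Nat.beq (2 ^ b % 23) j) || tests.any fun p => !testOK (xL j e) p.1 p.2

theorem candX_ok : candX = true := by decide +kernel

theorem inv_table : ∀ j < 23, 0 < j → ∃ j' < 23, j * j' % 23 = 1 := by decide +kernel

theorem normX {g : ↥Co0} (hg : g • vS = vS) {j : ℕ} (hj0 : 0 < j) (hj : j < 23)
    (hc : g * Xe * g⁻¹ = Xe ^ j) : ∃ a b, g = Xe ^ a * Ye ^ b ∧ 2 ^ b % 23 = j := by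
  have hpow : ∀ k : ℕ, g * Xe ^ k = Xe ^ (j * k) * g := fun k => by
    rw [pow_mul, ← hc, conj_pow, inv_mul_cancel_right]
  obtain ⟨j', -, hj'⟩ := inv_table j hj hj0
  have hn : g • ax none = ax none := by
    refine uniqX ?_ (norm_ax g none) ((dot_vax hg none).trans (by rw [show vStd none = -3 by decide +kernel]; norm_num))
    have h1 : Xe ^ (j * j') = Xe := by
      rw [← Nat.div_add_mod (j * j') 23, pow_add, pow_mul, Xe_pow_p, one_pow, one_mul, hj', pow_one]
    rw [← h1, ← mul_smul, ← hpow, mul_smul, Xpow_axn]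
  have hx := ax_mem_cross g (pt 0)
  rw [hn, cross_ax_none] at hx
  obtain ⟨i, s, hs, he⟩ := hx
  have hd := dot_vax hg (pt 0)
  rw [show vStd (pt 0) = 1 by decide +kernel, he, dotInt,
    Finset.sum_eq_single i (fun b _ hb => by simp [hb]) (fun h => absurd (Finset.mem_univ _) h),
    Pi.single_eq_same] at hd
  have hi : i ≠ none := by
    rintro rfl
    rw [show vStd none = -3 by decide +kernel] at hd
    omega
  rw [vStd_off i hi, one_mul] at hd
  subst hd
  have hlt : idx i < 23 := by
    have h1 := idx_lt i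
    by_contra hh
    exact hi (by rw [← pt_idx i, show idx i = 23 by omega]; exact pt23)
  set e := idx i with he'
  have he0 : g • ax (pt 0) = ax (pt e) := Subtype.ext (by rw [he, he', pt_idx, ax_coe]; norm_num)
  have himg : ∀ k < 23, g • ax (pt k) = ax (pt ((e + j * k) % 23)) := fun k hk => by
    have := Xpow_ax k (show 0 < 23 by norm_num)
    rw [zero_add, Nat.mod_eq_of_lt hk] at this
    rw [← this, ← mul_smul, hpow, mul_smul, he0, Xpow_ax _ hlt]
  have hok := candX_ok
  simp only [candX, List.all_eq_true, List.mem_range, Bool.or_eq_true, List.any_eq_true] at hok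
  rcases hok j hj with h0 | h0
  · have := Nat.eq_of_beq_eq_true h0
    omega
  rcases h0 e hlt with ⟨b, -, hb⟩ | ⟨p, hp, hbad⟩
  · have hb := Nat.eq_of_beq_eq_true hb
    refine ⟨e, b, ext_split ?_ fun k hk => ?_, hb⟩
    · rw [hn, mul_smul, Ypow_axn, Xpow_axn]
    · rw [himg k hk, mul_smul, Ypow_ax b hk, Xpow_ax e (Nat.mod_lt _ (by norm_num))]
      congr 2
      rw [← hb, Nat.mod_add_mod, Nat.add_comm e]
      exact (Nat.ModEq.add_right e ((Nat.mod_modEq (2 ^ b) 23).mul_right k))
  · have hl := List.all_eq_true.mp tests_ok p hp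
    rw [Bool.and_eq_true] at hl
    rw [test_sound g (L := xL j e) (fun k hk => ?_) hl.1 hl.2] at hbad
    · exact absurd hbad (by simp)
    rw [xL, List.getD_eq_getElem _ _ (by simpa using hk), List.getElem_map, List.getElem_range]
    rcases Nat.lt_or_ge k 23 with hk' | hk'
    · rw [show Nat.beq k 23 = false from Bool.eq_false_iff.mpr fun h => by
        have := Nat.eq_of_beq_eq_true h; omega, cond_false, himg k hk',
        ax_val ((Nat.mod_lt _ (by norm_num : 0 < 23)).trans (by norm_num))]
    · obtain rfl : k = 23 := by omega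
      rw [pt_last, hn, ← pt_last, ax_val (by norm_num)]
      rfl

end CfsgCoTwoOut
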