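/-
The three elements generate the stabiliser of a minimal vector.
-/
import Cfsg.Agent.Lib.CoTwoOut.Cent
import Cfsg.Agent.Lib.Leech.Census
import Cfsg.Agent.Lib.Leech.ModStab

set_option autoImplicit false
set_option maxRecDepth 100000

namespace CfsgCoTwoOut

open Cfsg CfsgGolay CfsgLeech CfsgLeech.Models CfsgLib.CosetEnum
open scoped Pointwise

attribute [local irreducible] codeL octadL dodecadL slpCodes

/-- A power of the translation as one step. -/
def xk (j : ℕ) : Step := some (xkC.getD j 0, 0)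

theorem xk_ok : ((List.range 23).all fun j => wordOK [xk j] &&
    sendB [xk j] (axC.getD 23 0) (axC.getD 23 0) &&
    (List.range 23).all fun k => sendB [xk j] (axC.getD k 0) (axC.getD ((k + j) % 23) 0)) = true := by
  decide +kernel

theorem el_xk {j : ℕ} (hj : j < 23) : el [xk j] = Xe ^ j := by
  have h := List.all_eq_true.mp xk_ok j (List.mem_range.mpr hj)
  simp only [Bool.and_eq_true, List.all_eq_true, List.mem_range] at h
  refine ext_split (Subtype.ext ?_) fun k hk => Subtype.ext ?_
  · rw [Xpow_axn, ← pt_last, el_send h.1.1 (ax_val (by norm_num)) h.1.2, ax_val (by norm_num)]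
  · rw [Xpow_ax j hk, el_send h.1.1 (ax_val (by omega)) (h.2 k hk), ax_val (by omega)]

theorem runB_one {s : Step} {c : ℕ} {k : ℕ → Bool} (h : runB [s] c k = true) :
    runW [s] (vecN c) = vecN (stepV s c) ∧ k (stepV s c) = true := by
  simp only [runB, force_eq, Bool.and_eq_true] at h
  exact ⟨by rw [runW, stepChk_eq h.1, runW], h.2⟩

/-- The vector of a place in the orbit. -/
def val (n : ℕ) : ℕ := stepV (xk (n % 23)) (reps.getD (n / 23) 0)

/-- The places of a list have increasing values, above `p` and ending at `q`. -/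
noncomputable def chk : List ℕ → ℕ → ℕ → Bool
  | [], p, q => Nat.beq p q
  | n :: l, p, q => Nat.blt n 4600 && force (reps.getD (n / 23) 0) fun c => force (xkC.getD (n % 23) 0) fun g =>
      runB [some (g, 0)] c fun d => Nat.blt p d && Nat.blt d (2 ^ 120) && chk l d q

theorem chk_cons {n p q : ℕ} {l : List ℕ} (h : chk (n :: l) p q = true) :
    n < 4600 ∧ p < val n ∧ val n < 2 ^ 120 ∧
      runW [xk (n % 23)] (vecN (reps.getD (n / 23) 0)) = vecN (val n) ∧ chk l (val n) q = true := by
  rw [chk] at h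
  simp only [force_eq, Bool.and_eq_true] at h
  obtain ⟨h1, h2⟩ := runB_one h.2
  simp only [Bool.and_eq_true, Nat.blt_eq] at h2
  exact ⟨Nat.blt_eq.mp h.1, h2.1.1, h2.1.2, h1, h2.2⟩

theorem chk_sound (l : List ℕ) : ∀ (p q : ℕ), chk l p q = true →
    List.IsChain (· < ·) (p :: l.map val) ∧ ∀ n ∈ l, n < 4600 ∧ val n < 2 ^ 120 ∧
      runW [xk (n % 23)] (vecN (reps.getD (n / 23) 0)) = vecN (val n) := by
  induction l with
  | nil => exact fun p q _ => ⟨List.isChain_singleton _, fun n hn => absurd hn List.not_mem_nil⟩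
  | cons n l ih =>
    intro p q h
    obtain ⟨h1, h2, h3, h4, h5⟩ := chk_cons h
    obtain ⟨hc, hall⟩ := ih _ _ h5
    refine ⟨?_, ?_⟩
    · rw [List.map_cons]
      exact List.isChain_cons_cons.mpr ⟨h2, hc⟩
    · intro m hm
      rcases List.mem_cons.mp hm with rfl | hm
      · exact ⟨h1, h3, h4⟩
      · exact hall m hm

theorem chk_append (l : List ℕ) : ∀ (l' : List ℕ) (p q r : ℕ), chk l p q = true → chk l' q r = true →
    chk (l ++ l') p r = true := by
  induction l with
  | nil =>
    intro l' p q r h h'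
    rw [chk] at h
    rw [List.nil_append, Nat.eq_of_beq_eq_true h]
    exact h'
  | cons n l ih =>
    intro l' p q r h h'
    obtain ⟨-, -, -, -, h5⟩ := chk_cons h
    have ht := ih l' (val n) q r h5 h'
    rw [chk] at h
    rw [List.cons_append, chk]
    simp only [force_eq, Bool.and_eq_true, runB] at h ⊢
    exact ⟨h.1, h.2.1, h.2.2.1, ht⟩

theorem chk0 : chk (ord0 ++ ord1) (ends.getD 0 0) (ends.getD 1 0) = true := by decide +kernel

theorem chk1 : chk (ord2 ++ ord3) (ends.getD 1 0) (ends.getD 2 0) = true := by decide +kernel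

theorem chk2 : chk (ord4 ++ ord5) (ends.getD 2 0) (ends.getD 3 0) = true := by decide +kernel

theorem chk3 : chk (ord6 ++ ord7) (ends.getD 3 0) (ends.getD 4 0) = true := by decide +kernel

theorem chk4 : chk (ord8 ++ ord9) (ends.getD 4 0) (ends.getD 5 0) = true := by decide +kernel

/-- All places in order. -/
def ordL : List ℕ := (ord0 ++ ord1) ++ (ord2 ++ ord3) ++ (ord4 ++ ord5) ++ (ord6 ++ ord7) ++ (ord8 ++ ord9)

theorem chk_all : chk ordL (ends.getD 0 0) (ends.getD 5 0) = true :=
  chk_append _ _ _ _ _ (chk_append _ _ _ _ _ (chk_append _ _ _ _ _ (chk_append _ _ _ _ _ chk0 chk1) chk2) chk3) chk4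

theorem ordL_length : ordL.length = 4600 := by decide +kernel

theorem reps_facts : inLatB (vecN (reps.getD 0 0)) = true ∧ dN (reps.getD 0 0) (reps.getD 0 0) = 32 ∧
    dN vC (reps.getD 0 0) = -16 := by decide +kernel

theorem parents_ok : ((List.range 200).all fun l => Nat.beq l 0 ||
    (Nat.blt (parents.getD l (0, 0)).1 l && Nat.blt (parents.getD l (0, 0)).2 23 &&
      sendB (xk (parents.getD l (0, 0)).2 :: zW) (reps.getD (parents.getD l (0, 0)).1 0) (reps.getD l 0))) = true := by
  decide +kernel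

theorem el_xk_apply {j : ℕ} (hj : j < 23) (v : ↥leechLattice) :
    ((Xe ^ j • v : ↥leechLattice) : GolayPt → ℤ) = runW [xk j] v := by
  have h := List.all_eq_true.mp xk_ok j (List.mem_range.mpr hj)
  simp only [Bool.and_eq_true] at h
  rw [← el_xk hj, el_apply h.1.1]

instance co0_fin : Finite ↥Co0 := Nat.finite_of_card_ne_zero (by rw [co0_card]; norm_num)

/-- The first generator in the stabiliser. -/
noncomputable def X2 : ↥co2S := ⟨Xe, Xe_fix⟩

/-- The second generator in the stabiliser. -/
noncomputable def Y2 : ↥co2S := ⟨Ye, Ye_fix⟩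

/-- The third generator in the stabiliser. -/
noncomputable def Z2 : ↥co2S := ⟨Ze, Ze_fix⟩

/-- What the three generate. -/
noncomputable def H2 : Subgroup ↥co2S := Subgroup.closure {X2, Y2, Z2}

theorem X2_mem : X2 ∈ H2 := Subgroup.subset_closure (by simp)

theorem Y2_mem : Y2 ∈ H2 := Subgroup.subset_closure (by simp)

theorem Z2_mem : Z2 ∈ H2 := Subgroup.subset_closure (by simp)

theorem X2_order : orderOf X2 = 23 :=
  haveI : Fact (Nat.Prime 23) := ⟨by norm_num⟩
  orderOf_eq_prime (Subtype.ext (by rw [SubmonoidClass.coe_pow]; exact Xe_pow_p))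
    fun h => Xe_ne (congrArg Subtype.val h)

theorem Y2_order : orderOf Y2 = 11 :=
  haveI : Fact (Nat.Prime 11) := ⟨by norm_num⟩
  orderOf_eq_prime (Subtype.ext (by rw [SubmonoidClass.coe_pow]; exact Ye_pow_p))
    fun h => Ye_ne (congrArg Subtype.val h)

theorem ZY2 : Z2 * Y2 = Y2 ^ 2 * Z2 :=
  Subtype.ext (by simp only [Subgroup.coe_mul, SubmonoidClass.coe_pow]; exact ZY)

theorem YX2 : Y2 * X2 = X2 ^ 2 * Y2 :=
  Subtype.ext (by simp only [Subgroup.coe_mul, SubmonoidClass.coe_pow]; exact YX)

theorem conj_iter {G : Type*} [Group G] {z y : G} {r : ℕ} (h : z * y = y ^ r * z) :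
    ∀ m : ℕ, z ^ m * y * (z ^ m)⁻¹ = y ^ r ^ m
  | 0 => by simp
  | m + 1 => by
    rw [pow_succ', mul_inv_rev, show z * z ^ m * y * ((z ^ m)⁻¹ * z⁻¹) = z * (z ^ m * y * (z ^ m)⁻¹) * z⁻¹ by group,
      conj_iter h m, ← conj_pow, show z * y * z⁻¹ = y ^ r by rw [h, mul_inv_cancel_right], ← pow_mul, pow_succ']

/-- The orbit of a vector under the subgroup has at least the listed size. -/
theorem orbit_card {v : ↥leechLattice} (hv : (v : GolayPt → ℤ) = vecN (reps.getD 0 0)) :
    4600 ≤ (MulAction.orbit ↥H2 v).ncard ∧ MulAction.orbit ↥H2 v ⊆ minDot vS (-16) := by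
  have hsub : MulAction.orbit ↥H2 v ⊆ minDot vS (-16) := by
    rintro _ ⟨g, rfl⟩
    refine ⟨(aut_norm (g.1 : ↥Co0) v).trans (by rw [hv, nN_eq]; exact reps_facts.2.1), ?_⟩
    have h := aut_dot (g.1 : ↥Co0) vS v
    rw [show (g.1 : ↥Co0) • vS = vS from g.1.2] at h
    exact h.trans (by rw [hv, vS_val, dN_eq]; exact reps_facts.2.2)
  refine ⟨?_, hsub⟩
  have hreach : ∀ l < 200, ∃ g : ↥H2, ((g • v : ↥leechLattice) : GolayPt → ℤ) = vecN (reps.getD l 0) := by
    intro l
    induction l using Nat.strong_induction_on with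
    | _ l ih =>
      intro hl
      have h := List.all_eq_true.mp parents_ok l (List.mem_range.mpr hl)
      simp only [Bool.or_eq_true, Bool.and_eq_true, Nat.blt_eq] at h
      rcases h with h | ⟨⟨hq, hj⟩, hs⟩
      · rw [Nat.eq_of_beq_eq_true h]
        exact ⟨1, by rw [one_smul, hv]⟩
      obtain ⟨g, hg⟩ := ih _ hq (by omega)
      have hw := List.all_eq_true.mp xk_ok _ (List.mem_range.mpr hj)
      simp only [Bool.and_eq_true] at hw
      refine ⟨⟨Z2 * X2 ^ (parents.getD l (0, 0)).2, mul_mem Z2_mem (pow_mem X2_mem _)⟩ * g, ?_⟩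
      rw [mul_smul]
      show (((Ze * Xe ^ (parents.getD l (0, 0)).2) • (g • v) : ↥leechLattice) : GolayPt → ℤ) = _
      rw [← el_xk hj, Ze, el_append hw.1.1 words_ok.2.2, hg]
      exact sendB_sound hs
  obtain ⟨hchain, hall⟩ := chk_sound _ _ _ chk_all
  have hpw := List.isChain_iff_pairwise.mp hchain
  have hnd : (ordL.map val).Nodup := ((List.pairwise_cons.mp hpw).2).imp fun h => ne_of_lt h
  classical
  let T : Finset ℕ := (ordL.map val).toFinset
  have hT : T.card = 4600 := by
    rw [List.toFinset_card_of_nodup hnd, List.length_map, ordL_length]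
  have hinj : Set.InjOn vecN (T : Set ℕ) := fun a ha b hb e => by
    simp only [T, List.coe_toFinset, Set.mem_setOf_eq, List.mem_map] at ha hb
    obtain ⟨n, hn, rfl⟩ := ha
    obtain ⟨m, hm, rfl⟩ := hb
    exact vecN_inj (hall n hn).2.1 (hall m hm).2.1 e
  have hfin : (MulAction.orbit ↥H2 v).Finite := Set.finite_range _
  calc 4600 = (vecN '' (T : Set ℕ)).ncard := by rw [hinj.ncard_image, Set.ncard_coe_finset, hT]
    _ ≤ (Subtype.val '' MulAction.orbit ↥H2 v).ncard := by
      refine Set.ncard_le_ncard ?_ (hfin.image _)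
      rintro _ ⟨a, ha, rfl⟩
      simp only [T, List.coe_toFinset, Set.mem_setOf_eq, List.mem_map] at ha
      obtain ⟨n, hn, rfl⟩ := ha
      obtain ⟨hn4, -, hrun⟩ := hall n hn
      obtain ⟨g, hg⟩ := hreach (n / 23) (by omega)
      refine ⟨_, MulAction.mem_orbit v (⟨X2 ^ (n % 23), pow_mem X2_mem _⟩ * g), ?_⟩
      rw [mul_smul]
      show ((((X2 : ↥co2S) ^ (n % 23) : ↥co2S) : ↥Co0) • (g • v) : ↥leechLattice).1 = _
      rw [SubmonoidClass.coe_pow]
      show ((Xe ^ (n % 23) • (g • v) : ↥leechLattice) : GolayPt → ℤ) = _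
      rw [el_xk_apply (Nat.mod_lt _ (by norm_num)), hg, hrun]
    _ = (MulAction.orbit ↥H2 v).ncard := Set.ncard_image_of_injective _ Subtype.val_injective

theorem card_dvd : 4600 ∣ Nat.card ↥H2 := by
  set v := vecL (reps.getD 0 0)
  obtain ⟨h1, h2⟩ := orbit_card (vecL_coe reps_facts.1)
  have hc : (MulAction.orbit ↥H2 v).ncard = 4600 := by
    refine le_antisymm ?_ h1
    rw [← count_sixteen (v := vS) vStd_norm]
    exact Set.ncard_le_ncard h2 (Set.finite_of_ncard_ne_zero (by rw [count_sixteen (v := vS) vStd_norm]; norm_num))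
  have := (MulAction.stabilizer ↥H2 v).index_dvd_card
  rwa [MulAction.index_stabilizer, hc] at this

/-- A word moves a vector. -/
noncomputable def moveB (w : List Step) (c : ℕ) : Bool :=
  force c fun c => Nat.blt c (2 ^ 120) && runB w c fun d => Nat.blt d (2 ^ 120) && !Nat.beq d c

theorem moveB_sound {w : List Step} {c : ℕ} (h : moveB w c = true) : runW w (vecN c) ≠ vecN c := by
  rw [moveB, force_eq, Bool.and_eq_true] at h
  obtain ⟨d, hd, hk⟩ := runB_sound w c _ h.2
  simp only [Bool.and_eq_true, Nat.blt_eq, Bool.not_eq_true'] at hk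
  intro e
  have := vecN_inj hk.1 (Nat.blt_eq.mp h.1) (hd.symm.trans e)
  rw [this, Nat.beq_refl] at hk
  exact absurd hk.2 (by simp)

/-- The relation. -/
def relW : List Step := (List.replicate 7 ([xk 1] ++ List.replicate 10 yS ++ zW)).flatten

theorem relW_facts : wordOK relW = true ∧ ((List.range 24).all fun k =>
    sendB relW (axC.getD k 0) (axC.getD k 0)) = true ∧
    moveB ([xk 1] ++ List.replicate 10 yS ++ zW) (axC.getD 0 0) = true := by
  decide +kernel

theorem el_flat {w : List Step} (hw : wordOK w = true) : ∀ m : ℕ, ∀ v : ↥leechLattice,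
    ((el w ^ m • v : ↥leechLattice) : GolayPt → ℤ) = runW (List.replicate m w).flatten v
  | 0, v => by rw [pow_zero, one_smul]; rfl
  | m + 1, v => by
    rw [pow_succ, mul_smul, el_flat hw m, el_apply hw, List.replicate_succ, List.flatten_cons, runW_append]

theorem wordOK_append : ∀ {u w : List Step}, wordOK u = true → wordOK w = true → wordOK (u ++ w) = true
  | [], _, _, h => h
  | none :: u, w, hu, hw => wordOK_append (u := u) hu hw
  | some (c, m) :: u, w, hu, hw => by
    simp only [wordOK, Bool.and_eq_true, List.cons_append] at hu ⊢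
    exact ⟨hu.1, wordOK_append hu.2 hw⟩

theorem el_pow_y : ∀ m : ℕ, ∀ v : ↥leechLattice,
    ((Ye ^ m • v : ↥leechLattice) : GolayPt → ℤ) = runW (List.replicate m yS) v
  | 0, v => by rw [pow_zero, one_smul]; rfl
  | m + 1, v => by
    rw [pow_succ, mul_smul, el_pow_y m, Ye, el_apply words_ok.2.1, List.replicate_succ,
      show (yS :: List.replicate m yS) = [yS] ++ List.replicate m yS from rfl, runW_append]

theorem rep_ok (m : ℕ) : wordOK (List.replicate m yS) = true := by
  induction m with
  | zero => rfl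
  | succ m ih => rw [List.replicate_succ]; exact wordOK_append (u := [yS]) words_ok.2.1 ih

theorem rel_word : wordOK ([xk 1] ++ List.replicate 10 yS ++ zW) = true :=
  wordOK_append (wordOK_append (by decide +kernel) (rep_ok 10)) words_ok.2.2

theorem rel_el : el ([xk 1] ++ List.replicate 10 yS ++ zW) = Ze * Ye ^ 10 * Xe :=
  ext_ax fun i => Subtype.ext (by
    rw [el_apply rel_word, mul_smul, mul_smul, runW_append, runW_append, Ze, el_apply words_ok.2.2, el_pow_y,
      ← pow_one Xe, el_xk_apply (by norm_num)])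

theorem rel : (Ze * Ye ^ 10 * Xe) ^ 7 = 1 ∧ Ze * Ye ^ 10 * Xe ≠ 1 := by
  refine ⟨ext_pt fun k hk => Subtype.ext ?_, fun h => ?_⟩
  · rw [← rel_el, el_flat rel_word, one_smul, ax_val hk]
    exact sendB_sound (List.all_eq_true.mp relW_facts.2.1 k (List.mem_range.mpr hk))
  · refine moveB_sound relW_facts.2.2 ?_
    have hr := congrArg (fun g : ↥Co0 => ((g • ax (pt 0) : ↥leechLattice) : GolayPt → ℤ)) h
    simp only [← rel_el, one_smul, el_apply rel_word, ax_val (show 0 < 24 by norm_num)] at hr
    exact hr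

end CfsgCoTwoOut
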