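/-
Every automorphism of the second Conway group is inner.
-/
import Cfsg.Agent.Lib.CoTwoOut.Gen
import Cfsg.Agent.Lib.PermChain.Rigid
import Cfsg.Agent.Lib.Leech.CoTwoMod
import Cfsg.Prelude.Def_KGroupFacts

set_option autoImplicit false
set_option maxRecDepth 100000

namespace CfsgCoTwoOut

open Cfsg CfsgGolay CfsgLeech CfsgLeech.Models CfsgLib.CosetEnum
open scoped Pointwise

attribute [local irreducible] codeL octadL dodecadL slpCodes

theorem card_co2S : Nat.card ↥co2S = 42305421312000 := co2S_card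

/-- A subgroup containing the normaliser of a group of prime order has index `1` modulo that prime. -/
theorem index_mod {G : Type*} [Group G] [Finite G] {p : ℕ} [hp : Fact p.Prime] {u : G} (hu : orderOf u = p)
    (hsq : ¬ p ^ 2 ∣ Nat.card G) {H : Subgroup G}
    (hN : Subgroup.normalizer ((Subgroup.zpowers u : Subgroup G) : Set G) ≤ H) : H.index ≡ 1 [MOD p] := by
  obtain ⟨P, hP⟩ := (IsPGroup.of_card (n := 1) (by rw [Nat.card_zpowers, hu, pow_one]) :
    IsPGroup p (Subgroup.zpowers u)).exists_le_sylow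
  have heq : (P : Subgroup G) = Subgroup.zpowers u := (Subgroup.eq_of_le_of_card_ge hP (by
    obtain ⟨k, hk⟩ := IsPGroup.iff_card.mp P.isPGroup'
    rw [hk, Nat.card_zpowers, hu]
    have h1 : k ≤ 1 := by
      by_contra hk1
      exact hsq ((pow_dvd_pow p (by omega : 2 ≤ k)).trans (hk ▸ Subgroup.card_subgroup_dvd_card _))
    calc p ^ k ≤ p ^ 1 := Nat.pow_le_pow_right hp.out.pos h1
      _ = p := pow_one p)).symm
  set N := Subgroup.normalizer ((P : Subgroup G) : Set G) with hNd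
  have hNH : N ≤ H := by rw [hNd, heq]; exact hN
  have hPH : (P : Subgroup G) ≤ H := Subgroup.le_normalizer.trans hNH
  have h1 : N.relIndex H = Nat.card (Sylow p H) := by
    rw [Sylow.card_eq_index_normalizer (P.subtype hPH)]
    show _ = (Subgroup.normalizer (((P : Subgroup G).subgroupOf H : Subgroup ↥H) : Set ↥H)).index
    rw [← Subgroup.subgroupOf_normalizer_eq hPH]
    rfl
  have h2 : N.index ≡ 1 [MOD p] := by
    have h := card_sylow_modEq_one p G
    rw [Sylow.card_eq_index_normalizer P] at h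
    exact h
  have h3 : N.relIndex H * H.index = N.index := Subgroup.relIndex_mul_index hNH
  have h4 := (card_sylow_modEq_one p ↥H).mul_right H.index
  rw [← h1, h3, one_mul] at h4
  exact h4.symm.trans h2

theorem norm_pow {G : Type*} [Group G] [Finite G] {u g : G} {p : ℕ} [hp : Fact p.Prime] (hu : orderOf u = p)
    (hg : g ∈ Subgroup.normalizer ((Subgroup.zpowers u : Subgroup G) : Set G)) :
    ∃ j, 0 < j ∧ j < p ∧ g * u * g⁻¹ = u ^ j := by
  have hm : g * u * g⁻¹ ∈ Subgroup.zpowers u := (Subgroup.mem_normalizer_iff.mp hg u).mp (Subgroup.mem_zpowers u)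
  obtain ⟨k, hk⟩ := (isOfFinOrder_of_finite u).mem_powers_iff_mem_zpowers.mpr hm
  refine ⟨k % p, Nat.pos_of_ne_zero fun h => ?_, Nat.mod_lt _ hp.out.pos, ?_⟩
  · have h1 : g * u * g⁻¹ = 1 := by
      rw [← show u ^ k = g * u * g⁻¹ from hk, ← pow_mod_orderOf, hu, h, pow_zero]
    rw [mul_inv_eq_one, mul_eq_left] at h1
    rw [h1, orderOf_one] at hu
    exact hp.out.one_lt.ne hu
  · rw [← hu, pow_mod_orderOf]; exact hk.symm

theorem X2_pow (j : ℕ) : ((X2 ^ j : ↥co2S) : ↥Co0) = Xe ^ j := SubmonoidClass.coe_pow _ _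

theorem Y2_pow (j : ℕ) : ((Y2 ^ j : ↥co2S) : ↥Co0) = Ye ^ j := SubmonoidClass.coe_pow _ _

theorem normX2 {g : ↥co2S} {j : ℕ} (hj0 : 0 < j) (hj : j < 23) (hc : g * X2 * g⁻¹ = X2 ^ j) :
    ∃ a b, g = X2 ^ a * Y2 ^ b ∧ 2 ^ b % 23 = j := by
  obtain ⟨a, b, h, hb⟩ := normX (g := (g : ↥Co0)) g.2 hj0 hj (by
    have := congrArg (fun x : ↥co2S => (x : ↥Co0)) hc
    simp only [Subgroup.coe_mul, InvMemClass.coe_inv, X2_pow] at this
    exact this)
  exact ⟨a, b, Subtype.ext (by rw [Subgroup.coe_mul, X2_pow, Y2_pow]; exact h), hb⟩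

theorem centY2 {g : ↥co2S} (hc : g * Y2 = Y2 * g) : ∃ t, g = Y2 ^ t := by
  obtain ⟨t, ht⟩ := centY (g := (g : ↥Co0)) g.2 (congrArg (fun x : ↥co2S => (x : ↥Co0)) hc)
  exact ⟨t, Subtype.ext (by rw [Y2_pow]; exact ht)⟩

theorem two_log : ∀ j < 11, 0 < j → ∃ m < 10, 2 ^ m % 11 = j := by decide +kernel

theorem index_arith : ∀ a < 16, ∀ b < 7, ∀ c < 2,
    2 ^ a * 3 ^ b * 5 ^ c % 11 = 1 → 2 ^ a * 3 ^ b * 5 ^ c % 23 = 1 → 2 ^ a * 3 ^ b * 5 ^ c = 1 := by
  decide +kernel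

theorem H2_top : H2 = ⊤ := by
  haveI : Fact (Nat.Prime 23) := ⟨by norm_num⟩
  haveI : Fact (Nat.Prime 11) := ⟨by norm_num⟩
  haveI : Fact (Nat.Prime 7) := ⟨by norm_num⟩
  have h23 : H2.index ≡ 1 [MOD 23] := index_mod X2_order (by rw [card_co2S]; norm_num) fun g hg => by
    obtain ⟨j, hj0, hj, hc⟩ := norm_pow X2_order hg
    obtain ⟨a, b, rfl, -⟩ := normX2 hj0 hj hc
    exact mul_mem (pow_mem X2_mem _) (pow_mem Y2_mem _)
  have h11 : H2.index ≡ 1 [MOD 11] := index_mod Y2_order (by rw [card_co2S]; norm_num) fun g hg => by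
    obtain ⟨j, hj0, hj, hc⟩ := norm_pow Y2_order hg
    obtain ⟨m, -, hm⟩ := two_log j hj hj0
    have hz : Z2 ^ m * Y2 * (Z2 ^ m)⁻¹ = g * Y2 * g⁻¹ := by
      rw [conj_iter ZY2, hc, ← pow_mod_orderOf, Y2_order, hm]
    obtain ⟨t, ht⟩ := centY2 (g := (Z2 ^ m)⁻¹ * g) (by
      calc (Z2 ^ m)⁻¹ * g * Y2 = (Z2 ^ m)⁻¹ * (g * Y2 * g⁻¹) * g := by group
        _ = (Z2 ^ m)⁻¹ * (Z2 ^ m * Y2 * (Z2 ^ m)⁻¹) * g := by rw [hz]
        _ = Y2 * ((Z2 ^ m)⁻¹ * g) := by group)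
    rw [inv_mul_eq_iff_eq_mul] at ht
    rw [ht]
    exact mul_mem (pow_mem Z2_mem _) (pow_mem Y2_mem _)
  have h77 : 77 ∣ Nat.card ↥H2 := by
    have hW : orderOf (Z2 * Y2 ^ 10 * X2) = 7 := orderOf_eq_prime
      (Subtype.ext (by
        simp only [Subgroup.coe_mul, SubmonoidClass.coe_pow, OneMemClass.coe_one]; exact rel.1))
      fun h => rel.2 (by
        have := congrArg (fun x : ↥co2S => (x : ↥Co0)) h
        simp only [Subgroup.coe_mul, SubmonoidClass.coe_pow] at this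
        exact this)
    have a7 := Subgroup.card_dvd_of_le (Subgroup.zpowers_le.mpr
      (mul_mem (mul_mem Z2_mem (pow_mem Y2_mem 10)) X2_mem) : Subgroup.zpowers (Z2 * Y2 ^ 10 * X2) ≤ H2)
    have a11 := Subgroup.card_dvd_of_le (Subgroup.zpowers_le.mpr Y2_mem : Subgroup.zpowers Y2 ≤ H2)
    rw [Nat.card_zpowers, hW] at a7
    rw [Nat.card_zpowers, Y2_order] at a11
    exact Nat.Coprime.mul_dvd_of_dvd_of_dvd (by norm_num : Nat.Coprime 7 11) a7 a11
  obtain ⟨k, hk⟩ := Nat.Coprime.mul_dvd_of_dvd_of_dvd (by norm_num : Nat.Coprime 4600 77) card_dvd h77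
  have hmul := H2.card_mul_index
  rw [hk, card_co2S] at hmul
  have hd : H2.index ∣ 2 ^ 15 * 3 ^ 6 * 5 ^ 1 := ⟨k, by linarith⟩
  obtain ⟨x, y, hx, hy, hxy⟩ := Nat.dvd_mul.mp hd
  obtain ⟨u, v, hu, hv, huv⟩ := Nat.dvd_mul.mp hx
  obtain ⟨a, ha, rfl⟩ := (Nat.dvd_prime_pow Nat.prime_two).mp hu
  obtain ⟨b, hb, rfl⟩ := (Nat.dvd_prime_pow Nat.prime_three).mp hv
  obtain ⟨c, hc, rfl⟩ := (Nat.dvd_prime_pow Nat.prime_five).mp hy
  subst huv
  rw [← hxy] at h11 h23
  rw [← Subgroup.index_eq_one, ← hxy]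
  exact index_arith a (by omega) b (by omega) c (by omega) h11 h23

/-- The generator candidates for the image of the third element. -/
def relAlt (e : Bool) (i : ℕ) : List Step :=
  (List.replicate 7 ([cond e (xk 22) (xk 1)] ++ List.replicate 10 yS ++ (List.replicate i yS ++ zW))).flatten

/-- All but the identity candidate break the relation. -/
noncomputable def altB : Bool :=
  [false, true].all fun e => (List.range 11).all fun i =>
    (!e && Nat.beq i 0) || moveB (relAlt e i) (axC.getD 0 0)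

theorem alt_ok : altB = true := by decide +kernel

theorem alt_word (e : Bool) (i : ℕ) :
    wordOK ([cond e (xk 22) (xk 1)] ++ List.replicate 10 yS ++ (List.replicate i yS ++ zW)) = true :=
  wordOK_append (wordOK_append (by cases e <;> decide +kernel) (rep_ok 10))
    (wordOK_append (rep_ok i) words_ok.2.2)

theorem alt_el (e : Bool) (i : ℕ) :
    el ([cond e (xk 22) (xk 1)] ++ List.replicate 10 yS ++ (List.replicate i yS ++ zW)) =
      Ze * Ye ^ i * Ye ^ 10 * (cond e Xe⁻¹ Xe) :=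
  ext_ax fun a => Subtype.ext (by
    have hx : cond e Xe⁻¹ Xe = Xe ^ cond e 22 1 := by
      cases e
      · exact (pow_one Xe).symm
      · show Xe⁻¹ = Xe ^ 22
        exact inv_eq_of_mul_eq_one_right (by rw [← pow_succ', Xe_pow_p])
    rw [el_apply (alt_word e i), mul_smul, mul_smul, mul_smul, runW_append, runW_append, runW_append, Ze,
      el_apply words_ok.2.2, el_pow_y, el_pow_y, hx, el_xk_apply (by cases e <;> norm_num)]
    cases e <;> rfl)

theorem alt_rel {e : Bool} {i : ℕ} (hi : i < 11)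
    (h : (Ze * Ye ^ i * Ye ^ 10 * (cond e Xe⁻¹ Xe)) ^ 7 = 1) : e = false ∧ i = 0 := by
  have hok := alt_ok
  simp only [altB, List.all_eq_true, List.mem_range, Bool.or_eq_true, Bool.and_eq_true, Bool.not_eq_true'] at hok
  rcases hok e (by cases e <;> simp) i hi with ⟨he, hi0⟩ | hm
  · exact ⟨he, Nat.eq_of_beq_eq_true hi0⟩
  exfalso
  refine moveB_sound hm ?_
  have hr := congrArg (fun g : ↥Co0 => ((g • ax (pt 0) : ↥leechLattice) : GolayPt → ℤ)) h
  simp only [← alt_el, el_flat (alt_word e i), one_smul, ax_val (show 0 < 24 by norm_num)] at hr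
  exact hr

theorem sq_log : ∀ j < 23, 0 < j → ∃ a < 11, 2 ^ a % 23 = j ∨ 22 * 2 ^ a % 23 = j := by decide +kernel

theorem two_one : ∀ b < 11, 2 ^ b % 23 = 2 → b = 1 := by decide +kernel

theorem normal_form (α : MulAut ↥co2S) : α ∈ Cfsg.Inn ↥co2S := by
  haveI : Fact (Nat.Prime 23) := ⟨by norm_num⟩
  haveI : Fact (Nat.Prime 11) := ⟨by norm_num⟩
  obtain ⟨g, j, hj0, hj, hgj⟩ := CfsgPC.Rigid.exists_conj_pow (p := 23) (u := X2) (v := α X2)
    (by rw [card_co2S]; norm_num) X2_order (by rw [MulEquiv.orderOf_eq, X2_order])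
  obtain ⟨a, -, ha⟩ := sq_log j hj hj0
  obtain ⟨e, hE⟩ : ∃ e : Bool, X2 ^ j = Y2 ^ a * (cond e X2⁻¹ X2) * (Y2 ^ a)⁻¹ := by
    rcases ha with ha | ha
    · refine ⟨false, ?_⟩
      rw [cond_false, conj_iter YX2, ← pow_mod_orderOf X2 (2 ^ a), X2_order, ha]
    · refine ⟨true, ?_⟩
      rw [cond_true, ← conj_inv, conj_iter YX2, ← ha, eq_inv_iff_mul_eq_one, ← pow_add, ← orderOf_dvd_iff_pow_eq_one,
        X2_order]
      refine Nat.dvd_of_mod_eq_zero ?_
      omega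
  set E := cond e X2⁻¹ X2 with hEd
  set α1 : MulAut ↥co2S := MulAut.conj (g * Y2 ^ a)⁻¹ * α with hα1
  have a1 : α1 X2 = E := by
    show (g * Y2 ^ a)⁻¹ * α X2 * ((g * Y2 ^ a)⁻¹)⁻¹ = E
    rw [hgj, hE]; group
  have hY : α1 Y2 * X2 * (α1 Y2)⁻¹ = X2 ^ 2 := by
    have h := congrArg α1 (show Y2 * X2 * Y2⁻¹ = X2 ^ 2 by rw [YX2, mul_inv_cancel_right])
    rw [map_mul, map_mul, map_inv, map_pow, a1, hEd] at h
    cases e
    · exact h
    · simp only [cond_true, inv_pow] at h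
      rw [← inv_inj, conj_inv]
      exact h
  obtain ⟨k, b, hkb, hb⟩ := normX2 (by norm_num) (by norm_num) hY
  have hb1 : X2 ^ k * Y2 ^ b = X2 ^ k * Y2 := by
    have hb' : 2 ^ (b % 11) % 23 = 2 := by
      rw [← Nat.div_add_mod b 11, pow_add, pow_mul, Nat.mul_mod, Nat.pow_mod] at hb
      norm_num at hb
      omega
    rw [← pow_mod_orderOf Y2 b, Y2_order, two_one _ (Nat.mod_lt _ (by norm_num)) hb', pow_one]
  rw [hb1] at hkb
  set β : MulAut ↥co2S := MulAut.conj (X2 ^ k) * α1 with hβ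
  have bX : β X2 = E := by
    show X2 ^ k * α1 X2 * (X2 ^ k)⁻¹ = E
    rw [a1, hEd]
    cases e
    · show X2 ^ k * X2 * (X2 ^ k)⁻¹ = X2
      rw [← pow_succ, pow_succ', mul_inv_cancel_right]
    · show X2 ^ k * X2⁻¹ * (X2 ^ k)⁻¹ = X2⁻¹
      group
  have bY : β Y2 = Y2 := by
    show X2 ^ k * α1 Y2 * (X2 ^ k)⁻¹ = Y2
    have h2 : Y2 * X2 ^ k = X2 ^ (2 * k) * Y2 := by
      exact (eq_mul_inv_iff_mul_eq.mp (show X2 ^ (2 * k) = Y2 * X2 ^ k * Y2⁻¹ by
        rw [← conj_pow, show Y2 * X2 * Y2⁻¹ = X2 ^ 2 by rw [YX2, mul_inv_cancel_right], pow_mul])).symm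
    rw [hkb, mul_inv_eq_iff_eq_mul, h2, ← mul_assoc, ← pow_add, two_mul]
  obtain ⟨i, hi⟩ := centY2 (g := Z2⁻¹ * β Z2) (by
    have h := congrArg β ZY2
    rw [map_mul, map_mul, map_pow, bY] at h
    calc Z2⁻¹ * β Z2 * Y2 = Z2⁻¹ * (Y2 ^ 2 * Z2) * (Z2⁻¹ * β Z2) := by rw [mul_assoc, h]; group
      _ = Z2⁻¹ * (Z2 * Y2) * (Z2⁻¹ * β Z2) := by rw [ZY2]
      _ = Y2 * (Z2⁻¹ * β Z2) := by group)
  have bZ : β Z2 = Z2 * Y2 ^ (i % 11) := by
    rw [← Y2_order, pow_mod_orderOf, ← hi, mul_inv_cancel_left]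
  have hrel : (Z2 * Y2 ^ (i % 11) * Y2 ^ 10 * E) ^ 7 = 1 := by
    have h := congrArg β (show (Z2 * Y2 ^ 10 * X2) ^ 7 = 1 from Subtype.ext (by
      simp only [Subgroup.coe_mul, SubmonoidClass.coe_pow, OneMemClass.coe_one]; exact rel.1))
    simpa only [map_pow, map_mul, map_one, bX, bY, bZ] using h
  obtain ⟨he, hi0⟩ := alt_rel (e := e) (Nat.mod_lt i (by norm_num : 11 > 0)) (by
    have h := congrArg (fun x : ↥co2S => (x : ↥Co0)) hrel
    simp only [Subgroup.coe_mul, SubmonoidClass.coe_pow, OneMemClass.coe_one, hEd] at h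
    cases e <;> exact h)
  subst he
  rw [hi0, pow_zero, mul_one] at bZ
  have hid : β = 1 := by
    refine MulEquiv.toMonoidHom_injective (MonoidHom.eq_of_eqOn_dense (s := {X2, Y2, Z2}) H2_top ?_)
    rintro w (rfl | rfl | rfl)
    · exact bX
    · exact bY
    · exact bZ
  have h : α = (MulAut.conj (g * Y2 ^ a)⁻¹)⁻¹ * (MulAut.conj (X2 ^ k))⁻¹ * β := by
    rw [hβ, hα1]; group
  rw [h, hid, mul_one]
  exact mul_mem (inv_mem ⟨_, rfl⟩) (inv_mem ⟨_, rfl⟩)

theorem co2_equiv : Nonempty (↥Spor.Co2 ≃* ↥co2S) := by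
  obtain ⟨g, hg⟩ := shell_transitive (fun _ a b => eqv32 a b) Spor.leechU vS leechU_norm32 vStd_norm
  obtain ⟨e⟩ := stab_iso hg.symm
  have h : Spor.Co2 = (MulAction.stabilizer ↥Co0 Spor.leechU).map Co0.subtype := by
    ext g
    simp only [Spor.Co2, Subgroup.mem_map, Subgroup.mem_inf, MulAction.mem_stabilizer_iff]
    exact ⟨fun ⟨hg, h⟩ => ⟨⟨g, hg⟩, h, rfl⟩, fun ⟨k, hk, he⟩ => he ▸ ⟨k.2, hk⟩⟩
  exact ⟨((MulEquiv.subgroupCongr h).trans
    (Subgroup.equivMapOfInjective _ _ Co0.subtype_injective).symm).trans e⟩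

theorem card_out_Co2 : Nat.card (Cfsg.Out ↥Spor.Co2) = 1 := by
  obtain ⟨e⟩ := co2_equiv
  rw [CfsgPC.card_out_congr e]
  refine Nat.card_eq_one_iff_unique.mpr ⟨⟨fun x y => ?_⟩, inferInstance⟩
  induction x using QuotientGroup.induction_on with
  | _ a =>
    induction y using QuotientGroup.induction_on with
    | _ b => exact QuotientGroup.eq.mpr (mul_mem (inv_mem (normal_form a)) (normal_form b))

end CfsgCoTwoOut
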